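import Mathlib

/-! Semilinear maps over an extension field inside the linear group over the base field. -/

set_option autoImplicit false
set_option linter.unusedSectionVars false

namespace Cfsg.Lib.Classical.ExtField

open Module

variable {F L V : Type*} [Field F] [Finite F] [Field L] [Algebra F L] [FiniteDimensional F L]
  [AddCommGroup V] [Module F V] [Module L V] [IsScalarTower F L V] [FiniteDimensional F V]

variable (L) in
/-- `g` is semilinear over `L`. -/
def Semi (g : V ≃ₗ[F] V) : Prop := ∀ a : L, ∃ b : L, ∀ z : V, g (a • z) = b • g z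

variable (L) in
/-- The hypotheses on a subgroup containing the semilinear elements of its determinants. -/
structure Over (H : Subgroup (V ≃ₗ[F] V)) : Prop where
  prime : (finrank F L).Prime
  two_le : 2 ≤ finrank L V
  semi_mem : ∀ g : V ≃ₗ[F] V, Semi L g → ∀ h ∈ H, LinearEquiv.det h = LinearEquiv.det g → g ∈ H
  exists_not_semi : ∃ g ∈ H, ¬ Semi L g

variable {H : Subgroup (V ≃ₗ[F] V)}

theorem semi_restrict (P : V ≃ₗ[L] V) : Semi L (P.restrictScalars F) :=
  fun a => ⟨a, fun z => P.map_smul a z⟩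

/-- An `L`-linear equivalence of norm-one determinant lies in `H`. -/
theorem Over.linear_mem (hO : Over L H) (P : V ≃ₗ[L] V)
    (hd : Algebra.norm F (LinearMap.det (P : V →ₗ[L] V)) = 1) : P.restrictScalars F ∈ H := by
  refine hO.semi_mem _ (semi_restrict P) 1 H.one_mem ?_
  rw [map_one]
  refine Units.ext ?_
  have : FiniteDimensional L V := FiniteDimensional.right F L V
  rw [Units.val_one, LinearEquiv.coe_det]
  show (1 : F) = LinearMap.det ((P : V →ₗ[L] V).restrictScalars F)
  rw [LinearMap.det_restrictScalars, hd]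

theorem Over.transvection_mem (hO : Over L H) {θ : Dual L V} {v : V} (h : θ v = 0) :
    (LinearEquiv.transvection h).restrictScalars F ∈ H := by
  refine hO.linear_mem _ ?_
  rw [← LinearEquiv.coe_det, LinearEquiv.transvection.det_eq_one, Units.val_one, map_one]

theorem Over.dilatransvection_mem (hO : Over L H) {θ : Dual L V} {v : V} {c : L} (hc : θ v = c - 1)
    (hn : Algebra.norm F c = 1) :
    ∃ P : V ≃ₗ[L] V, P.restrictScalars F ∈ H ∧ ∀ z, P z = z + θ z • v := by
  have : FiniteDimensional L V := FiniteDimensional.right F L V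
  have hc0 : c ≠ 0 := fun h => by rw [h, Algebra.norm_zero] at hn; exact zero_ne_one hn
  have hu : IsUnit (1 + θ v) := by
    rw [hc, add_sub_cancel]
    exact isUnit_iff_ne_zero.mpr hc0
  refine ⟨LinearEquiv.dilatransvection hu, hO.linear_mem _ ?_, fun z => LinearEquiv.dilatransvection.apply⟩
  rw [LinearEquiv.dilatransvection.coe_toLinearMap, LinearMap.transvection.det, hc, add_sub_cancel, hn]

theorem exists_dual_eq_one {K : Type*} [Field K] {W : Type*} [AddCommGroup W] [Module K W]
    {p : Submodule K W} {v : W} (hv : v ∉ p) : ∃ θ : Dual K W, θ v = 1 ∧ ∀ z ∈ p, θ z = 0 := by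
  obtain ⟨f, hf, hp⟩ := Submodule.exists_dual_map_eq_bot_of_notMem hv inferInstance
  refine ⟨(f v)⁻¹ • f, by simp [hf], fun z hz => ?_⟩
  have : f z = 0 := (Submodule.mem_bot K).mp (hp ▸ Submodule.mem_map_of_mem hz)
  simp [this]

/-- A transvection moving `x` to `v`. -/
theorem Over.exists_move (hO : Over L H) {x v : V} (hx : x ≠ 0) (hv : v ∉ L ∙ x) :
    ∃ P : V ≃ₗ[L] V, P.restrictScalars F ∈ H ∧ P x = v := by
  have hx' : x ∉ L ∙ (v - x) := by
    intro h
    obtain ⟨c, hc⟩ := Submodule.mem_span_singleton.mp h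
    have hc0 : c ≠ 0 := fun h0 => hx (by rw [← hc, h0, zero_smul])
    refine hv (Submodule.mem_span_singleton.mpr ⟨c⁻¹ + 1, ?_⟩)
    rw [add_smul, one_smul]
    nth_rewrite 1 [← hc]
    rw [smul_smul, inv_mul_cancel₀ hc0, one_smul, sub_add_cancel]
  obtain ⟨θ, hθ, hθ'⟩ := exists_dual_eq_one hx'
  have h0 : θ (v - x) = 0 := hθ' _ (Submodule.mem_span_singleton_self _)
  refine ⟨LinearEquiv.transvection h0, hO.transvection_mem h0, ?_⟩
  rw [LinearEquiv.transvection.apply, hθ, one_smul, add_sub_cancel]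

/-- The torus element `diag(a⁻¹, a)` on an independent pair. -/
theorem Over.exists_diag (hO : Over L H) {x z : V} (hx : x ≠ 0) (hz : z ∉ L ∙ x) {a : L} (ha : a ≠ 0) :
    ∃ P : V ≃ₗ[L] V, P.restrictScalars F ∈ H ∧ P x = a⁻¹ • x ∧ P z = a • z := by
  obtain ⟨θ, hθz, hθ⟩ := exists_dual_eq_one hz
  have hθx : θ x = 0 := hθ x (Submodule.mem_span_singleton_self x)
  have hxz : x ∉ L ∙ z := by
    intro h
    obtain ⟨c, hc⟩ := Submodule.mem_span_singleton.mp h
    have hc0 : c ≠ 0 := fun h0 => hx (by rw [← hc, h0, zero_smul])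
    exact hz (Submodule.mem_span_singleton.mpr ⟨c⁻¹, by rw [← hc, smul_smul, inv_mul_cancel₀ hc0, one_smul]⟩)
  obtain ⟨θ', hθ'x, hθ'⟩ := exists_dual_eq_one hxz
  have hθ'z : θ' z = 0 := hθ' z (Submodule.mem_span_singleton_self z)
  have hW : ∀ t : L, t ≠ 0 → ∃ P : V ≃ₗ[L] V, P.restrictScalars F ∈ H ∧
      P x = (-t⁻¹) • z ∧ P z = t • x := by
    intro t ht
    have h1 : θ (t • x) = 0 := by rw [map_smul, hθx, smul_zero]
    have h2 : θ' ((-t⁻¹) • z) = 0 := by rw [map_smul, hθ'z, smul_zero]
    refine ⟨LinearEquiv.transvection h1 * (LinearEquiv.transvection h2 * LinearEquiv.transvection h1),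
      H.mul_mem (hO.transvection_mem h1) (H.mul_mem (hO.transvection_mem h2) (hO.transvection_mem h1)), ?_, ?_⟩
    · simp only [LinearEquiv.mul_apply, LinearEquiv.transvection.apply, map_add, map_smul, smul_eq_mul,
        hθx, hθz, hθ'x, hθ'z, zero_smul, mul_one, mul_zero, add_zero, one_smul, zero_add]
      match_scalars <;> field_simp <;> ring
    · simp only [LinearEquiv.mul_apply, LinearEquiv.transvection.apply, map_add, map_smul, smul_eq_mul,
        hθx, hθz, hθ'x, hθ'z, zero_smul, mul_one, mul_zero, add_zero, one_smul, zero_add]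
      match_scalars <;> field_simp <;> ring
  obtain ⟨P, hP, hPx, hPz⟩ := hW a⁻¹ (inv_ne_zero ha)
  obtain ⟨Q, hQ, hQx, hQz⟩ := hW (-1) (by simp)
  refine ⟨P * Q, H.mul_mem hP hQ, ?_, ?_⟩
  · rw [LinearEquiv.mul_apply, hQx, map_smul, hPz, smul_smul]
    simp
  · rw [LinearEquiv.mul_apply, hQz, map_smul, hPx, smul_smul]
    simp

variable (L) in
/-- `z ↦ z + χ(z) x` belongs to `H` and `χ` kills the line of `x`. -/
def X (H : Subgroup (V ≃ₗ[F] V)) (x : V) (χ : V →ₗ[F] L) : Prop :=
  (∀ a : L, χ (a • x) = 0) ∧ ∃ g ∈ H, ∀ z, g z = z + χ z • x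

theorem X.congr {x : V} {χ χ' : V →ₗ[F] L} (h : X L H x χ) (e : ∀ z, χ z = χ' z) : X L H x χ' :=
  LinearMap.ext e ▸ h

theorem X.zero (x : V) : X L H x 0 := ⟨fun _ => rfl, 1, H.one_mem, fun z => by simp⟩

theorem X.add {x : V} {χ χ' : V →ₗ[F] L} (h : X L H x χ) (h' : X L H x χ') : X L H x (χ + χ') := by
  obtain ⟨h0, g, hg, hgz⟩ := h
  obtain ⟨h0', g', hg', hgz'⟩ := h'
  refine ⟨fun a => by simp [h0 a, h0' a], g * g', H.mul_mem hg hg', fun z => ?_⟩
  rw [LinearEquiv.mul_apply, hgz', hgz, map_add χ, h0, LinearMap.add_apply, add_zero, add_smul]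
  abel

theorem X.neg {x : V} {χ : V →ₗ[F] L} (h : X L H x χ) : X L H x (-χ) := by
  obtain ⟨h0, g, hg, hgz⟩ := h
  refine ⟨fun a => by simp [h0 a], g⁻¹, H.inv_mem hg, fun z => ?_⟩
  show g.symm z = _
  rw [LinearEquiv.symm_apply_eq, hgz, map_add χ, LinearMap.neg_apply, h0, add_zero, neg_smul, neg_add_cancel_right]

theorem X.sub {x : V} {χ χ' : V →ₗ[F] L} (h : X L H x χ) (h' : X L H x χ') : X L H x (χ - χ') :=
  sub_eq_add_neg χ χ' ▸ h.add h'.neg

theorem X.of_dual (hO : Over L H) {x : V} {θ : Dual L V} (h : θ x = 0) :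
    X L H x (θ.restrictScalars F) :=
  ⟨fun a => by simp [h], _, hO.transvection_mem h, fun z => LinearEquiv.transvection.apply h z⟩

/-- Conjugation by an `L`-linear element of `H`. -/
theorem X.conj {x y : V} {χ : V →ₗ[F] L} (h : X L H x χ) {P : V ≃ₗ[L] V} (hP : P.restrictScalars F ∈ H)
    {c : L} (hc : P x = c • y) (hc0 : c ≠ 0) :
    X L H y (c • χ ∘ₗ (P.symm.restrictScalars F : V →ₗ[F] V)) := by
  obtain ⟨h0, g, hg, hgz⟩ := h
  have hy : P.symm y = c⁻¹ • x := by
    rw [LinearEquiv.symm_apply_eq, map_smul, hc, smul_smul, inv_mul_cancel₀ hc0, one_smul]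
  refine ⟨fun a => ?_, P.restrictScalars F * g * (P.restrictScalars F)⁻¹,
    H.mul_mem (H.mul_mem hP hg) (H.inv_mem hP), fun z => ?_⟩
  · show c • χ (P.symm (a • y)) = 0
    rw [map_smul, hy, smul_smul, h0, smul_zero]
  · show P (g (P.symm z)) = z + (c • χ (P.symm z)) • y
    rw [hgz, map_add, LinearEquiv.apply_symm_apply, map_smul, hc, smul_smul, smul_eq_mul, mul_comm]

/-- A subfield containing the norm-one elements is everything. -/
theorem eq_top_of_norm_one (hr : (finrank F L).Prime) (S : Subfield L)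
    (hS : ∀ c : L, Algebra.norm F c = 1 → c ∈ S) : S = ⊤ := by
  have hL : Finite L := Module.finite_of_finite F
  by_contra hne
  have hlt : 2 ≤ finrank S L := by
    by_contra hh
    have h1 : finrank S L = 1 := by
      have := (Module.finrank_pos : 0 < finrank S L)
      omega
    have hc := Module.natCard_eq_pow_finrank (K := S) (V := L)
    rw [h1, pow_one] at hc
    refine hne (SetLike.coe_injective ?_)
    exact Set.eq_of_subset_of_ncard_le (Set.subset_univ _)
      (by rw [Subfield.coe_top, Set.ncard_univ, hc]; exact (Nat.card_coe_set_eq _).le) (Set.toFinite _)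
  set f : Lˣ →* Fˣ := Units.map (Algebra.norm F (S := L))
  have hker : Nat.card f.ker * (Nat.card F - 1) = Nat.card L - 1 := by
    have h := f.ker.card_mul_index
    rw [Subgroup.index_ker, MonoidHom.range_eq_top.mpr (FiniteField.unitsMap_norm_surjective F L),
      Nat.card_congr Subgroup.topEquiv.toEquiv, Nat.card_units, Nat.card_units] at h
    exact h
  have hsub : Nat.card f.ker + 1 ≤ Nat.card S := by
    let φ : Option f.ker → S := fun o => o.elim 0 fun u =>
      ⟨((u : Lˣ) : L), hS _ (Units.ext_iff.mp (MonoidHom.mem_ker.mp u.2))⟩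
    have hinj : Function.Injective φ := by
      rintro (_ | u) (_ | v) h
      · rfl
      · exact absurd (congrArg Subtype.val h).symm (v : Lˣ).ne_zero
      · exact absurd (congrArg Subtype.val h) (u : Lˣ).ne_zero
      · exact congrArg some (Subtype.ext (Units.ext (congrArg Subtype.val h :)))
    simpa [Finite.card_option] using Nat.card_le_card_of_injective φ hinj
  have hq : 2 ≤ Nat.card F := Finite.one_lt_card
  have hs : 2 ≤ Nat.card S := Finite.one_lt_card
  have h1 : Nat.card S ^ 2 ≤ Nat.card L := by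
    rw [Module.natCard_eq_pow_finrank (K := S) (V := L)]
    exact Nat.pow_le_pow_right (by omega) hlt
  have h2 : Nat.card F ^ 2 ≤ Nat.card L := by
    rw [Module.natCard_eq_pow_finrank (K := F) (V := L)]
    exact Nat.pow_le_pow_right (by omega) hr.two_le
  set k := Nat.card f.ker
  set l := Nat.card L
  have h3 : (k + 1) ^ 2 ≤ l := (Nat.pow_le_pow_left hsub 2).trans h1
  obtain ⟨q, hq'⟩ : ∃ q, Nat.card F = q + 1 := ⟨Nat.card F - 1, by omega⟩
  rw [hq'] at h2 hker hq
  rw [Nat.add_sub_cancel] at hker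
  have hl : k * q + 1 = l := by
    have : 1 ≤ l := by nlinarith
    omega
  rw [← hl] at h2 h3
  have hk : k < q := by nlinarith
  nlinarith

/-- The coefficients `χ` form an `L`-space. -/
theorem X.smul (hO : Over L H) {x : V} {χ : V →ₗ[F] L} (h : X L H x χ) (c : L) : X L H x (c • χ) := by
  rcases eq_or_ne x 0 with rfl | hx
  · obtain ⟨h0, g, hg, hgz⟩ := h
    exact ⟨fun a => by simp [h0 a], g, hg, fun z => by simp [hgz]⟩
  have hL : Finite L := Module.finite_of_finite F
  let C : Subring L :=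
    { carrier := {c | ∀ χ : V →ₗ[F] L, X L H x χ → X L H x (c • χ)}
      one_mem' := fun χ hχ => by rwa [one_smul]
      mul_mem' := fun {a b} ha hb χ hχ => by rw [mul_smul]; exact ha _ (hb χ hχ)
      zero_mem' := fun χ hχ => by rw [zero_smul]; exact X.zero x
      add_mem' := fun {a b} ha hb χ hχ => by rw [add_smul]; exact (ha χ hχ).add (hb χ hχ)
      neg_mem' := fun {a} ha χ hχ => (ha χ hχ).neg.congr fun z => by simp }
  have hinv : ∀ a ∈ C, a⁻¹ ∈ C := by
    intro a ha
    rcases eq_or_ne a 0 with rfl | ha0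
    · rwa [inv_zero]
    have := Fintype.ofFinite L
    have e : a⁻¹ = a ^ (Fintype.card L - 2) := by
      refine inv_eq_of_mul_eq_one_right ?_
      rw [← pow_succ']
      have : 1 < Fintype.card L := Fintype.one_lt_card
      rw [show Fintype.card L - 2 + 1 = Fintype.card L - 1 by omega]
      exact FiniteField.pow_card_sub_one_eq_one a ha0
    rw [e]
    exact pow_mem ha _
  let S : Subfield L := { C with inv_mem' := hinv }
  have hS : S = ⊤ := by
    refine eq_top_of_norm_one hO.prime S fun c hc χ hχ => ?_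
    obtain ⟨θ, hθ⟩ : ∃ θ : Dual L V, θ x = 1 := by
      obtain ⟨θ, h, -⟩ := exists_dual_eq_one (K := L) (p := ⊥) (v := x) (by simpa using hx)
      exact ⟨θ, h⟩
    obtain ⟨P, hP, hPz⟩ := hO.dilatransvection_mem (θ := θ) (v := (c - 1) • x) (c := c)
      (by simp [hθ]) hc
    have hPx : P x = c • x := by rw [hPz, hθ, one_smul, sub_smul, one_smul, add_sub_cancel]
    have hc0 : c ≠ 0 := fun h => by rw [h, Algebra.norm_zero] at hc; exact zero_ne_one hc
    refine (hχ.conj hP hPx hc0).congr fun z => ?_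
    show c • χ (P.symm z) = c • χ z
    have := hPz (P.symm z)
    rw [LinearEquiv.apply_symm_apply, smul_smul] at this
    conv_rhs => rw [this, map_add χ, hχ.1, add_zero]
  have hmem : c ∈ S := hS ▸ Subfield.mem_top c
  exact hmem χ h

end Cfsg.Lib.Classical.ExtField
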