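import Cfsg.Agent.Classical.ExtField.Twist

/-! From a twisted line to an element `1 + f·x` with `f` valued in the base field. -/

set_option autoImplicit false
set_option linter.unusedSectionVars false

namespace Cfsg.Lib.Classical.ExtField

open Module

variable {F L V : Type*} [Field F] [Finite F] [Field L] [Algebra F L] [FiniteDimensional F L]
  [AddCommGroup V] [Module F V] [Module L V] [IsScalarTower F L V] [FiniteDimensional F V]
  {H : Subgroup (V ≃ₗ[F] V)}

variable (L) in
/-- An element `1 + f·x` with `f` valued in `F` killing the line of `x`. -/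
def RankOne (H : Subgroup (V ≃ₗ[F] V)) : Prop :=
  ∃ (x : V) (f : V →ₗ[F] F), x ≠ 0 ∧ f ≠ 0 ∧ (∀ a : L, f (a • x) = 0) ∧
    X L H x (Algebra.linearMap F L ∘ₗ f)

/-- Conjugate of the transvections along `x` by `1 + B`. -/
theorem chi_mem (hO : Over L H) {x w₀ : V} {B : V →ₗ[F] V} {τ : L →ₗ[F] F} {η : V →ₗ[F] F}
    {k : V ≃ₗ[F] V} (hk : k ∈ H) (hkz : ∀ z, k z = z + B z) (hBB : ∀ z, B (B z) = 0)
    (hBx : ∀ c : L, B (c • x) = τ c • x) (hBη : ∀ z, ∃ c : L, B z = η z • w₀ + c • x)
    (hηx : ∀ c : L, η (c • x) = 0) {φ : Dual L V} (hφx : φ x = 0) (hφw : φ w₀ = 1) (a : L) :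
    X L H x (Algebra.linearMap F L ∘ₗ (τ ∘ₗ (a • φ).restrictScalars F - τ a • η) - η.smulRight a) := by
  have hθ : (a • φ) x = 0 := by simp [hφx]
  have hinv : ∀ z, k⁻¹ z = z - B z := fun z => by
    show k.symm z = _
    rw [LinearEquiv.symm_apply_eq, hkz, map_sub, hBB, sub_zero, sub_add_cancel]
  have hφB : ∀ z, φ (B z) = algebraMap F L (η z) := fun z => by
    obtain ⟨c, hc⟩ := hBη z
    rw [hc, map_add, LinearMap.map_smul_of_tower, map_smul, hφw, hφx, smul_zero, add_zero,
      Algebra.algebraMap_eq_smul_one]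
  have hfull : X L H x ((a • φ).restrictScalars F +
      (Algebra.linearMap F L ∘ₗ (τ ∘ₗ (a • φ).restrictScalars F - τ a • η) - η.smulRight a)) := by
    refine ⟨fun c => by simp [hηx c, hφx], k * (LinearEquiv.transvection hθ).restrictScalars F * k⁻¹,
      H.mul_mem (H.mul_mem hk (hO.transvection_mem hθ)) (H.inv_mem hk), fun z => ?_⟩
    show k (LinearEquiv.transvection hθ (k⁻¹ z)) = _
    rw [LinearEquiv.transvection.apply, map_add, hkz ((a • φ) (k⁻¹ z) • x), hBx,
      show k (k⁻¹ z) = z from k.apply_symm_apply z]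
    have hc : (a • φ) (k⁻¹ z) = a * φ z - η z • a := by
      rw [hinv, LinearMap.smul_apply, map_sub φ, hφB, smul_eq_mul, mul_sub, Algebra.smul_def, mul_comm (algebraMap F L (η z))]
    rw [hc]
    simp only [LinearMap.add_apply, LinearMap.sub_apply, LinearMap.coe_comp, LinearMap.coe_restrictScalars,
      Function.comp_apply, LinearMap.smul_apply, Algebra.linearMap_apply, LinearMap.smulRight_apply, map_sub,
      map_smul, smul_eq_mul, add_smul, sub_smul, algebraMap_smul]
    module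
  have h := hfull.sub (X.of_dual hO hθ)
  rwa [add_sub_cancel_left] at h

variable (T : Twist L H)

/-- The square-zero maps attached to a twist. -/
noncomputable def Twist.B (t : L) : V →ₗ[F] V :=
  (T.g : V →ₗ[F] V) ∘ₗ (LinearMap.toSpanSingleton L V T.u).restrictScalars F ∘ₗ
    (t • T.ψ).restrictScalars F ∘ₗ (T.g.symm : V →ₗ[F] V)

theorem Twist.B_apply (t : L) (z : V) : T.B t z = T.g ((t * T.ψ (T.g.symm z)) • T.u) := rfl

theorem Twist.B_B (s t : L) (z : V) : T.B s (T.B t z) = 0 := by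
  rw [T.B_apply, T.B_apply, LinearEquiv.symm_apply_apply, map_smul T.ψ, T.ψu, smul_zero, mul_zero, zero_smul, map_zero]

theorem Twist.exists_k (hO : Over L H) (t : L) : ∃ k ∈ H, ∀ z, k z = z + T.B t z := by
  have hθ : (t • T.ψ) T.u = 0 := by simp [T.ψu]
  refine ⟨T.g * (LinearEquiv.transvection hθ).restrictScalars F * T.g⁻¹,
    H.mul_mem (H.mul_mem T.g_mem (hO.transvection_mem hθ)) (H.inv_mem T.g_mem), fun z => ?_⟩
  show T.g (LinearEquiv.transvection hθ (T.g.symm z)) = _
  rw [LinearEquiv.transvection.apply, map_add, LinearEquiv.apply_symm_apply, LinearMap.smul_apply, smul_eq_mul]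
  rfl

theorem Twist.ψx : T.ψ (T.g.symm T.x) = 0 := by
  rw [← T.gb, LinearEquiv.symm_apply_apply, map_smul T.ψ, T.ψu, smul_zero]

theorem Twist.ψw : T.ψ (T.g.symm T.w₀) = 0 := by
  rw [← T.gw, LinearEquiv.symm_apply_apply, map_smul T.ψ, T.ψu, smul_zero]

theorem Twist.exists_tau : ∃ τ : L →ₗ[F] F, τ 1 = 0 ∧ τ T.c₀ = 1 ∧
    (∀ c : L, T.ψ (T.g.symm (c • T.x)) = algebraMap F L (τ c)) ∧
    ∀ (t : L) (c : L), T.B t (c • T.x) = τ c • T.g (t • T.u) := by
  obtain ⟨π, hπ⟩ : ∃ π : L →ₗ[F] F, ∀ l : F, π (algebraMap F L l) = l := by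
    obtain ⟨θ, hθ, -⟩ := exists_dual_eq_one (K := F) (p := ⊥) (v := (1 : L)) (by simp)
    exact ⟨θ, fun l => by rw [Algebra.algebraMap_eq_smul_one, map_smul, hθ, smul_eq_mul, mul_one]⟩
  let τ : L →ₗ[F] F := π ∘ₗ T.ψ.restrictScalars F ∘ₗ (T.g.symm : V →ₗ[F] V) ∘ₗ
    (LinearMap.toSpanSingleton L V T.x).restrictScalars F
  have hτ : ∀ c : L, T.ψ (T.g.symm (c • T.x)) = algebraMap F L (τ c) := fun c => by
    obtain ⟨l, hl⟩ := T.scalar c
    show _ = algebraMap F L (π (T.ψ (T.g.symm (c • T.x))))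
    rw [hl, hπ]
  refine ⟨τ, ?_, ?_, hτ, fun t c => ?_⟩
  · show π (T.ψ (T.g.symm ((1 : L) • T.x))) = 0
    rw [one_smul, T.ψx, map_zero]
  · show π (T.ψ (T.g.symm (T.c₀ • T.x))) = 1
    rw [T.ψy, ← map_one (algebraMap F L), hπ]
  · rw [T.B_apply, hτ, mul_comm, mul_smul, algebraMap_smul, map_smul]

theorem Twist.exists_eta : ∃ η : V →ₗ[F] F, η T.w₀ = 0 ∧ (∀ c : L, η (c • T.x) = 0) ∧
    ∀ z, ∃ c : L, T.B T.b z = η z • T.w₀ + c • T.x := by
  obtain ⟨π, hπw, hπx⟩ := exists_dual_eq_one (K := F) (p := line F L T.x) (v := T.w₀) (by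
    rw [mem_line]
    exact fun h => T.w₀_not (Submodule.mem_span_singleton.mpr h))
  obtain ⟨τ, -, -, hτ, hB⟩ := T.exists_tau
  refine ⟨π ∘ₗ T.B T.b, ?_, fun c => ?_, fun z => ?_⟩
  · show π (T.B T.b T.w₀) = 0
    rw [T.B_apply, T.ψw, mul_zero, zero_smul, map_zero, map_zero]
  · show π (T.B T.b (c • T.x)) = 0
    rw [hB, T.gb, map_smul, hπx _ (self_mem_line _), smul_zero]
  · obtain ⟨l, c, hlc⟩ := T.span (T.b * T.ψ (T.g.symm z))
    refine ⟨c, ?_⟩
    show _ = π (T.B T.b z) • T.w₀ + c • T.x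
    rw [T.B_apply, hlc, map_add, map_smul, hπw, hπx _ (mem_line.mpr ⟨c, rfl⟩), add_zero, smul_eq_mul, mul_one]

/-- `M d t = τ(d t) - τ(t) d`. -/
noncomputable def Mmap (τ : L →ₗ[F] F) (d : L) : L →ₗ[F] L :=
  Algebra.linearMap F L ∘ₗ τ ∘ₗ LinearMap.mulLeft F d - τ.smulRight d

theorem Mmap_apply (τ : L →ₗ[F] F) (d t : L) : Mmap τ d t = algebraMap F L (τ (d * t)) - τ t • d := rfl

/-- A bimodule of maps containing the identity and all `Mmap τ d` contains a rank-one map. -/
theorem exists_rankOne_of_bimodule (τ : L →ₗ[F] F) (hτ : τ ≠ 0) (hr : (finrank F L).Prime) (h3 : 3 ≤ finrank F L)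
    (hτ1 : τ 1 = 0) (R : Submodule F (L →ₗ[F] L))
    (hl : ∀ (v : L), ∀ G ∈ R, v • G ∈ R) (hrt : ∀ (v : L), ∀ G ∈ R, G ∘ₗ LinearMap.mulLeft F v ∈ R)
    (hid : LinearMap.id ∈ R) (hM : ∀ d, τ d = 0 → Mmap τ d ∈ R) :
    Algebra.linearMap F L ∘ₗ τ ∈ R := by
  classical
  let D : Subalgebra F L :=
    { carrier := {d | Mmap τ d ∈ R}
      mul_mem' := fun {d e} hd he => by
        have : Mmap τ (d * e) = Mmap τ d ∘ₗ LinearMap.mulLeft F e + d • Mmap τ e := by
          ext t
          simp only [Mmap_apply, LinearMap.add_apply, LinearMap.coe_comp, Function.comp_apply,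
            LinearMap.mulLeft_apply, LinearMap.smul_apply, smul_eq_mul, mul_assoc, Algebra.smul_def]
          ring
        show Mmap τ (d * e) ∈ R
        rw [this]
        exact R.add_mem (hrt e _ hd) (hl d _ he)
      add_mem' := fun {d e} hd he => by
        have : Mmap τ (d + e) = Mmap τ d + Mmap τ e := by
          ext t
          simp only [Mmap_apply, LinearMap.add_apply, add_mul, map_add, smul_add]
          ring
        show Mmap τ (d + e) ∈ R
        rw [this]
        exact R.add_mem hd he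
      algebraMap_mem' := fun l => hM _ (by rw [Algebra.algebraMap_eq_smul_one, map_smul, hτ1, smul_zero]) }
  have := Subalgebra.isSimpleOrder_of_finrank_prime F L hr
  have htop : ∀ d, Mmap τ d ∈ R := by
    have hker : 2 ≤ finrank F (LinearMap.ker τ) := by
      have h := τ.finrank_range_add_finrank_ker
      have h' := Submodule.finrank_le (LinearMap.range τ)
      rw [finrank_self] at h'
      omega
    have hne : D ≠ ⊥ := by
      intro h
      have hle : LinearMap.ker τ ≤ Subalgebra.toSubmodule (⊥ : Subalgebra F L) := by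
        rw [← h]
        exact fun d hd => hM d hd
      have := Submodule.finrank_mono hle
      rw [Subalgebra.finrank_toSubmodule, Subalgebra.finrank_bot] at this
      omega
    intro d
    have h : d ∈ D := ((IsSimpleOrder.eq_bot_or_eq_top D).resolve_left hne) ▸ Algebra.mem_top
    exact h
  -- the functionals `t ↦ τ (w t)` exhaust the dual
  let Ψ : L →ₗ[F] (L →ₗ[F] F) := LinearMap.llcomp F L L F τ ∘ₗ LinearMap.mul F L
  have hΨ : ∀ w t, Ψ w t = τ (w * t) := fun w t => rfl
  have hinj : Function.Injective Ψ := by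
    rw [← LinearMap.ker_eq_bot, LinearMap.ker_eq_bot']
    intro w hw
    by_contra hw0
    refine hτ (LinearMap.ext fun t => ?_)
    have := LinearMap.congr_fun hw (w⁻¹ * t)
    rwa [hΨ, mul_inv_cancel_left₀ hw0] at this
  have hsurj : Function.Surjective Ψ :=
    (LinearMap.injective_iff_surjective_of_finrank_eq_finrank (by simp [Subspace.dual_finrank_eq])).mp hinj
  let β := Module.finBasis F L
  choose w hw using fun i => hsurj (β.coord i)
  set ρ : L := ∑ i, w i * β i
  have hρ : ρ ≠ 0 := by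
    intro h0
    obtain ⟨v, hv⟩ := Algebra.trace_surjective F L (1 : F)
    have h1 : τ (v * ρ) = Algebra.trace F L v := by
      rw [Algebra.trace_eq_matrix_trace β, Matrix.trace, Finset.mul_sum, map_sum]
      refine Finset.sum_congr rfl fun i _ => ?_
      rw [Matrix.diag_apply, Algebra.leftMulMatrix_eq_repr_mul, ← mul_assoc, mul_comm v, mul_assoc, ← hΨ, hw]
      rfl
    rw [h0, mul_zero, map_zero, hv] at h1
    exact zero_ne_one h1
  have hsum : ∑ i, β i • Mmap τ (w i) ∈ R := R.sum_mem fun i _ => hl _ _ (htop _)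
  have heq : ∑ i, β i • Mmap τ (w i) = LinearMap.id - ρ • (Algebra.linearMap F L ∘ₗ τ) := by
    ext t
    simp only [LinearMap.sum_apply, LinearMap.smul_apply, LinearMap.sub_apply, LinearMap.id_apply,
      LinearMap.coe_comp, Function.comp_apply, Algebra.linearMap_apply, Mmap_apply, smul_eq_mul, mul_sub,
      Finset.sum_sub_distrib, Algebra.smul_def, ρ, Finset.sum_mul]
    refine congrArg₂ (· - ·) ?_ (Finset.sum_congr rfl fun i _ => by ring)
    conv_rhs => rw [← β.sum_repr t]
    refine Finset.sum_congr rfl fun i _ => ?_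
    rw [← hΨ, hw, Algebra.smul_def, mul_comm]
    rfl
  rw [heq] at hsum
  have := hl ρ⁻¹ _ (R.sub_mem hid hsum)
  rwa [sub_sub_cancel, smul_smul, inv_mul_cancel₀ hρ, one_smul] at this

end Cfsg.Lib.Classical.ExtField
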