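import Cfsg.Agent.Classical.ExtField.Main

/-! Determinants of semilinear maps and non-semilinear transvections. -/

set_option autoImplicit false
set_option linter.unusedSectionVars false

namespace Cfsg.Lib.Classical.ExtField

open Module

variable {F L V : Type*} [Field F] [Finite F] [Field L] [Algebra F L] [FiniteDimensional F L]
  [AddCommGroup V] [Module F V] [Module L V] [IsScalarTower F L V] [FiniteDimensional F V]

theorem Semi.mul {g h : V ≃ₗ[F] V} (hg : Semi L g) (hh : Semi L h) : Semi L (g * h) := fun a => by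
  obtain ⟨b, hb⟩ := hh a
  obtain ⟨c, hc⟩ := hg b
  exact ⟨c, fun z => by rw [LinearEquiv.mul_apply, hb, hc, LinearEquiv.mul_apply]⟩

theorem Semi.inv {g : V ≃ₗ[F] V} (hg : Semi L g) : Semi L g⁻¹ := by
  have : Finite V := Module.finite_of_finite F
  have : Finite (V ≃ₗ[F] V) := Finite.of_injective _ LinearEquiv.toEquiv_injective
  have hpow : ∀ k : ℕ, Semi L (g ^ k) := fun k => by
    induction k with
    | zero => exact fun a => ⟨a, fun z => by simp⟩
    | succ k ih => rw [pow_succ]; exact ih.mul hg
  have e : g⁻¹ = g ^ (orderOf g - 1) := by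
    refine inv_eq_of_mul_eq_one_right ?_
    rw [← pow_succ', Nat.sub_add_cancel (orderOf_pos g), pow_orderOf_eq_one]
  rw [e]
  exact hpow _

/-- Every determinant occurs on an `L`-linear map. -/
theorem exists_semi_det {x : V} (hx : x ≠ 0) (d : Fˣ) :
    ∃ P : V ≃ₗ[F] V, Semi L P ∧ LinearEquiv.det P = d := by
  have : FiniteDimensional L V := FiniteDimensional.right F L V
  have : Finite L := Module.finite_of_finite F
  obtain ⟨c, hc⟩ := FiniteField.norm_surjective F L (d : F)
  have hc0 : c ≠ 0 := fun h => d.ne_zero (by rw [← hc, h, Algebra.norm_zero])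
  obtain ⟨θ, hθ, -⟩ := exists_dual_eq_one (K := L) (p := ⊥) (v := x) (by simpa using hx)
  have hu : IsUnit (1 + θ ((c - 1) • x)) := by simp [hθ, hc0]
  refine ⟨(LinearEquiv.dilatransvection hu).restrictScalars F, semi_restrict _, Units.ext ?_⟩
  rw [LinearEquiv.coe_det]
  show LinearMap.det (((LinearEquiv.dilatransvection hu : V ≃ₗ[L] V) : V →ₗ[L] V).restrictScalars F) = _
  rw [LinearMap.det_restrictScalars, LinearEquiv.dilatransvection.coe_toLinearMap, LinearMap.transvection.det,
    map_smul, hθ, smul_eq_mul, mul_one, add_sub_cancel, hc]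

/-- Some transvection over the base field is not semilinear. -/
theorem exists_not_semi (hr : 2 ≤ finrank F L) (hm : 2 ≤ finrank L V) :
    ∃ g : V ≃ₗ[F] V, LinearEquiv.det g = 1 ∧ ¬ Semi L g := by
  have : FiniteDimensional L V := FiniteDimensional.right F L V
  let β := Module.finBasis L V
  set v := β ⟨0, by omega⟩ with hv
  set z := β ⟨1, by omega⟩ with hz
  have hzv : z ∉ L ∙ v := by
    intro h
    obtain ⟨c, hc⟩ := Submodule.mem_span_singleton.mp h
    have := congrArg (fun w => β.repr w ⟨1, by omega⟩) hc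
    simp [hv, hz] at this
  have hv0 : v ≠ 0 := β.ne_zero _
  have hz0 : z ≠ 0 := β.ne_zero _
  obtain ⟨a, ha⟩ : ∃ a : L, a ∉ (F ∙ (1 : L)) := by
    by_contra! h
    have h2 : (F ∙ (1 : L)) = ⊤ := Submodule.eq_top_iff'.mpr h
    rw [← finrank_top F L, ← h2, finrank_span_singleton one_ne_zero] at hr
    omega
  have hnot : a • z ∉ (F ∙ z) ⊔ line F L v := by
    intro h
    obtain ⟨p, hp, q, hq, hpq⟩ := Submodule.mem_sup.mp h
    obtain ⟨l, rfl⟩ := Submodule.mem_span_singleton.mp hp
    obtain ⟨c, rfl⟩ := mem_line.mp hq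
    have h1 : (a - algebraMap F L l) • z = c • v := by
      rw [sub_smul, algebraMap_smul, ← hpq, add_sub_cancel_left]
    refine ha (Submodule.mem_span_singleton.mpr ⟨l, ?_⟩)
    rcases eq_or_ne (a - algebraMap F L l) 0 with h0 | h0
    · rw [sub_eq_zero] at h0
      rw [h0, Algebra.algebraMap_eq_smul_one]
    · refine absurd (Submodule.mem_span_singleton.mpr ⟨(a - algebraMap F L l)⁻¹ * c, ?_⟩) hzv
      rw [mul_smul, ← h1, smul_smul, inv_mul_cancel₀ h0, one_smul]
  obtain ⟨f, hfa, hf⟩ := exists_dual_eq_one hnot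
  have hfv : f v = 0 := hf v (Submodule.mem_sup_right (self_mem_line v))
  have hfz : f z = 0 := hf z (Submodule.mem_sup_left (Submodule.mem_span_singleton_self z))
  refine ⟨LinearEquiv.transvection hfv, LinearEquiv.transvection.det_eq_one hfv, fun hS => ?_⟩
  obtain ⟨b, hb⟩ := hS a
  have h := hb z
  rw [LinearEquiv.transvection.apply, LinearEquiv.transvection.apply, hfa, hfz, zero_smul, add_zero,
    one_smul] at h
  refine hzv (Submodule.mem_span_singleton.mpr ?_)
  rcases eq_or_ne (b - a) 0 with h0 | h0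
  · rw [sub_eq_zero.mp h0] at h
    exact absurd (add_eq_left.mp h) hv0
  · exact ⟨(b - a)⁻¹, by
      rw [show v = (b - a) • z by rw [sub_smul, ← h, add_sub_cancel_left], smul_smul, inv_mul_cancel₀ h0, one_smul]⟩

end Cfsg.Lib.Classical.ExtField
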