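import Cfsg.Agent.Classical.ExtField.RankOne

/-! An overgroup with a non-semilinear element contains all transvections over the base field. -/

set_option autoImplicit false
set_option linter.unusedSectionVars false

namespace Cfsg.Lib.Classical.ExtField

open Module

variable {F L V : Type*} [Field F] [Finite F] [Field L] [Algebra F L] [FiniteDimensional F L]
  [AddCommGroup V] [Module F V] [Module L V] [IsScalarTower F L V] [FiniteDimensional F V]
  {H : Subgroup (V ≃ₗ[F] V)}

variable (L) in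
/-- `H` has every transvection `1 + f·v` with `f` killing the line of `v`. -/
def Full (H : Subgroup (V ≃ₗ[F] V)) (v : V) : Prop :=
  ∀ f : V →ₗ[F] F, (∀ a : L, f (a • v) = 0) → X L H v (Algebra.linearMap F L ∘ₗ f)

theorem Over.exists_notMem (hO : Over L H) (x : V) : ∃ y : V, y ∉ L ∙ x := by
  by_contra! h
  have htop : (L ∙ x) = ⊤ := Submodule.eq_top_iff'.mpr h
  have h2 := hO.two_le
  rw [← finrank_top L V, ← htop] at h2
  have h3 := finrank_span_le_card ({x} : Set V) (R := L)
  simp only [Set.toFinset_singleton, Finset.card_singleton] at h3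
  omega

theorem Over.full_of_rankOne (hO : Over L H) {x : V} (hx : x ≠ 0) {f₀ : V →ₗ[F] F} (hf₀ : f₀ ≠ 0)
    (hfx : ∀ a : L, f₀ (a • x) = 0) (hX : X L H x (Algebra.linearMap F L ∘ₗ f₀)) : Full L H x := by
  let Φ : Submodule F (Dual F V) :=
    { carrier := {f | X L H x (Algebra.linearMap F L ∘ₗ f)}
      zero_mem' := (X.zero x).congr fun z => by simp
      add_mem' := fun {f g} hf hg => (hf.add hg).congr fun z => by simp
      smul_mem' := fun l f hf => (hf.smul hO (algebraMap F L l)).congr fun z => by simp [Algebra.smul_def] }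
  set Z : Submodule F V := Φ.dualCoannihilator with hZ
  have hmem : ∀ z, z ∈ Z ↔ ∀ f ∈ Φ, f z = 0 := fun z => Submodule.mem_dualCoannihilator z
  have hline : ∀ a : L, a • x ∈ Z := fun a => (hmem _).mpr fun f hf => by
    have h := hf.1 a
    exact (algebraMap F L).injective (by simpa using h)
  -- invariance under the stabiliser of the line
  have hP : ∀ (P : V ≃ₗ[L] V), P.restrictScalars F ∈ H → ∀ c : L, c ≠ 0 → P x = c • x →
      ∀ z ∈ Z, P.symm z ∈ Z := by
    intro P hPH c hc hPx z hz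
    refine (hmem _).mpr fun f hf => ?_
    have h : f ∘ₗ (P.symm.restrictScalars F : V →ₗ[F] V) ∈ Φ :=
      ((X.conj hf hPH hPx hc).smul hO c⁻¹).congr fun w => by simp [hc]
    exact (hmem z).mp hz _ h
  have hL : ∀ (a : L), ∀ z ∈ Z, a • z ∈ Z := by
    intro a z hz
    rcases eq_or_ne a 0 with rfl | ha
    · rw [zero_smul]; exact Z.zero_mem
    by_cases hzx : z ∈ L ∙ x
    · obtain ⟨b, rfl⟩ := Submodule.mem_span_singleton.mp hzx
      rw [smul_smul]
      exact hline _
    obtain ⟨P, hPH, hPx, hPz⟩ := hO.exists_diag hx hzx (inv_ne_zero ha)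
    rw [inv_inv] at hPx
    have h := hP P hPH a ha hPx z hz
    have e : P.symm z = a • z := by
      rw [LinearEquiv.symm_apply_eq, map_smul, hPz, smul_smul, mul_inv_cancel₀ ha, one_smul]
    rwa [e] at h
  have hZle : ∀ z ∈ Z, z ∈ L ∙ x := by
    intro z hz
    by_contra hzx
    refine hf₀ (LinearMap.ext fun v => ?_)
    refine (hmem v).mp ?_ f₀ hX
    by_cases hv : v ∈ Submodule.span L {x, z}
    · obtain ⟨a, b, hab⟩ := Submodule.mem_span_pair.mp hv
      rw [← hab]
      exact Z.add_mem (hline a) (hL b z hz)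
    have hzv : z ∉ Submodule.span L {x, v - z} := by
      intro h
      obtain ⟨a, b, hab⟩ := Submodule.mem_span_pair.mp h
      rcases eq_or_ne b 0 with rfl | hb
      · rw [zero_smul, add_zero] at hab
        exact hzx (Submodule.mem_span_singleton.mpr ⟨a, hab⟩)
      · refine hv (Submodule.mem_span_pair.mpr ⟨-(b⁻¹ * a), b⁻¹ + 1, ?_⟩)
        have hv' : v = b⁻¹ • (b • (v - z)) + z := by
          rw [smul_smul, inv_mul_cancel₀ hb, one_smul, sub_add_cancel]
        rw [hv', eq_sub_of_add_eq' hab]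
        module
    obtain ⟨θ, hθz, hθx, hθv⟩ := exists_dual_pair hzv
    have h0 : θ (z - v) = 0 := by rw [← neg_sub, map_neg, hθv, neg_zero]
    have hPx : LinearEquiv.transvection h0 x = (1 : L) • x := by
      rw [LinearEquiv.transvection.apply, hθx, zero_smul, add_zero, one_smul]
    have h := hP _ (hO.transvection_mem h0) 1 one_ne_zero hPx z hz
    have e : (LinearEquiv.transvection h0).symm z = v := by
      rw [LinearEquiv.symm_apply_eq, LinearEquiv.transvection.apply,
        show θ v = 1 by rw [← sub_add_cancel v z, map_add, hθv, hθz, zero_add], one_smul, add_sub_cancel]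
    rwa [e] at h
  intro f hf
  have h : f ∈ Z.dualAnnihilator := (Submodule.mem_dualAnnihilator f).mpr fun z hz => by
    obtain ⟨a, rfl⟩ := Submodule.mem_span_singleton.mp (hZle z hz)
    exact hf a
  rw [hZ, Subspace.dualCoannihilator_dualAnnihilator_eq] at h
  exact h

theorem Full.move (hO : Over L H) {x v : V} (h : Full L H x) (hx : x ≠ 0) (hv : v ∉ L ∙ x) : Full L H v := by
  obtain ⟨P, hP, hPx⟩ := hO.exists_move hx hv
  intro f hf
  have h' := h (f ∘ₗ (P.restrictScalars F : V →ₗ[F] V)) (fun a => by simp [hPx, hf a])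
  refine (h'.conj hP (c := 1) (y := v) (by rw [hPx, one_smul]) one_ne_zero).congr fun z => ?_
  simp

theorem Over.full (hO : Over L H) {v : V} (hv : v ≠ 0) : Full L H v := by
  obtain ⟨x, f₀, hx, hf₀, hfx, hX⟩ := exists_rankOne hO
  have hF : Full L H x := hO.full_of_rankOne hx hf₀ hfx hX
  by_cases h : v ∈ L ∙ x
  · obtain ⟨z, hz⟩ := hO.exists_notMem x
    have hzx : v ∉ L ∙ z := by
      intro h'
      obtain ⟨a, ha⟩ := Submodule.mem_span_singleton.mp h'
      have ha0 : a ≠ 0 := fun h0 => hv (by rw [← ha, h0, zero_smul])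
      refine hz ?_
      have : z = a⁻¹ • v := by rw [← ha, smul_smul, inv_mul_cancel₀ ha0, one_smul]
      rw [this]
      exact Submodule.smul_mem _ _ h
    exact (hF.move hO hx hz).move hO (fun h0 => hz (h0 ▸ Submodule.zero_mem _)) hzx
  · exact hF.move hO hx h

/-- All transvections over the base field lie in `H`. -/
theorem Over.exists_transvection (hO : Over L H) (v : V) (f : V →ₗ[F] F) (hf : f v = 0) :
    ∃ g ∈ H, ∀ z, g z = z + f z • v := by
  rcases eq_or_ne v 0 with rfl | hv
  · exact ⟨1, H.one_mem, fun z => by simp⟩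
  have hT : ∀ (x : V) (e : V →ₗ[F] F), x ≠ 0 → (∀ a : L, e (a • x) = 0) →
      ∃ g ∈ H, ∀ z, g z = z + e z • x := fun x e hx he => by
    obtain ⟨-, g, hg, hgz⟩ := hO.full hx e he
    exact ⟨g, hg, fun z => by rw [hgz]; simp [algebraMap_smul]⟩
  obtain ⟨w, hw⟩ := hO.exists_notMem v
  have hw0 : w ≠ 0 := fun h => hw (h ▸ Submodule.zero_mem _)
  obtain ⟨θ, hθw, hθ⟩ := exists_dual_eq_one hw
  have hθv : ∀ a : L, θ (a • v) = 0 := fun a => hθ _ (Submodule.mem_span_singleton.mpr ⟨a, rfl⟩)
  let f₁ : V →ₗ[F] F := f ∘ₗ (θ.smulRight w).restrictScalars F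
  have hf₁ : ∀ z, f₁ z = f (θ z • w) := fun z => rfl
  have h₁ : ∀ a : L, f₁ (a • v) = 0 := fun a => by rw [hf₁, hθv, zero_smul, map_zero]
  have h₂ : ∀ a : L, (f - f₁) (a • w) = 0 := fun a => by
    rw [LinearMap.sub_apply, hf₁, map_smul θ, hθw, smul_eq_mul, mul_one, sub_self]
  have h₂v : (f - f₁) v = 0 := by rw [LinearMap.sub_apply, hf, hf₁]; simpa using congrArg f (by
    rw [show θ v = 0 by simpa using hθv 1, zero_smul] : θ v • w = 0)
  obtain ⟨e, hew, he⟩ := exists_dual_eq_one (K := F) (p := line F L v) (v := w) (by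
    rw [mem_line]
    exact fun h => hw (Submodule.mem_span_singleton.mpr h))
  have hev : ∀ a : L, e (a • v) = 0 := fun a => he _ (mem_line.mpr ⟨a, rfl⟩)
  obtain ⟨A, hA, hAz⟩ := hT v e hv hev
  obtain ⟨B, hB, hBz⟩ := hT w (f - f₁) hw0 h₂
  obtain ⟨C, hC, hCz⟩ := hT v f₁ hv h₁
  have hev1 : e v = 0 := by simpa using hev 1
  have h2w : (f - f₁) w = 0 := by simpa using h₂ 1
  have hAi : ∀ z, A⁻¹ z = z - e z • v := fun z => by
    show A.symm z = _
    rw [LinearEquiv.symm_apply_eq, hAz, map_sub e, map_smul e, hev1, smul_zero, sub_zero, sub_add_cancel]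
  have hBi : ∀ z, B⁻¹ z = z - (f - f₁) z • w := fun z => by
    show B.symm z = _
    rw [LinearEquiv.symm_apply_eq, hBz, map_sub (f - f₁), map_smul (f - f₁), h2w, smul_zero, sub_zero,
      sub_add_cancel]
  refine ⟨A * B * A⁻¹ * B⁻¹ * C,
    H.mul_mem (H.mul_mem (H.mul_mem (H.mul_mem hA hB) (H.inv_mem hA)) (H.inv_mem hB)) hC, fun z => ?_⟩
  show A (B (A⁻¹ (B⁻¹ (C z)))) = _
  set d := f - f₁ with hd
  have hfd : f = f₁ + d := by rw [hd, add_sub_cancel]
  rw [hBi, hAi, hBz, hAz, hCz, hfd]
  have h1v : f₁ v = 0 := by simpa using h₁ 1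
  simp only [map_add, map_sub, map_smul, hev1, h2w, h₂v, hew, h1v, smul_eq_mul, mul_zero, mul_one, sub_zero,
    add_zero, zero_add, LinearMap.add_apply]
  module

end Cfsg.Lib.Classical.ExtField
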