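import Cfsg.Agent.Classical.ExtField.Core

/-! A non-semilinear overgroup contains a rank-one element over the base field. -/

set_option autoImplicit false
set_option linter.unusedSectionVars false

namespace Cfsg.Lib.Classical.ExtField

open Module

variable {F L V : Type*} [Field F] [Finite F] [Field L] [Algebra F L] [FiniteDimensional F L]
  [AddCommGroup V] [Module F V] [Module L V] [IsScalarTower F L V] [FiniteDimensional F V]
  {H : Subgroup (V ≃ₗ[F] V)}

theorem rankOne_tiny (hO : Over L H) (T : Twist L H) (hq : ∀ l : F, l = 0 ∨ l = 1) (hr : finrank F L = 2)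
    {τ : L →ₗ[F] F} (hτ1 : τ 1 = 0) (hτc : τ T.c₀ = 1)
    (hτψ : ∀ c : L, T.ψ (T.g.symm (c • T.x)) = algebraMap F L (τ c))
    (hBτ : ∀ (t : L) (c : L), T.B t (c • T.x) = τ c • T.g (t • T.u))
    {η : V →ₗ[F] F} (hBη : ∀ z, ∃ c : L, T.B T.b z = η z • T.w₀ + c • T.x)
    {φ φ' : Dual L V} (hφx : φ T.x = 0) (hφw : φ T.w₀ = 1) (hφ'x : φ' T.x = 1) (hφ'w : φ' T.w₀ = 0)
    (hdec : ∀ z, z = φ' z • T.x + φ z • T.w₀) (hητ : ∀ z, η z = τ (φ z)) : RankOne L H := by
  classical
  have hL : Finite L := Module.finite_of_finite F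
  set x := T.x with hxdef
  set w := T.w₀ with hwdef
  set c := T.c₀ with hcdef
  have h11 : (1 : F) + 1 = 0 := (hq (1 + 1)).resolve_right fun h => one_ne_zero (add_eq_left.mp h)
  have two : ∀ v : V, v + v = 0 := fun v => by
    rw [← one_smul F v, ← add_smul, h11, zero_smul]
  have two' : ∀ v v' : V, v + (v + v') = v' := fun v v' => by rw [← add_assoc, two, zero_add]
  have twoL : (1 : L) + 1 = 0 := by simpa using congrArg (algebraMap F L) h11
  have hker : ∀ e : L, τ e = 0 → ∃ l : F, e = algebraMap F L l := by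
    intro e he
    have hτ0 : τ ≠ 0 := fun h => by rw [h, LinearMap.zero_apply] at hτc; exact zero_ne_one hτc
    have hle : (F ∙ (1 : L)) ≤ LinearMap.ker τ := (Submodule.span_singleton_le_iff_mem _ _).mpr hτ1
    have hfin : finrank F (LinearMap.ker τ) ≤ 1 := by
      have h := τ.finrank_range_add_finrank_ker
      have hrange : 1 ≤ finrank F (LinearMap.range τ) :=
        Submodule.one_le_finrank_iff.mpr (by rwa [Ne, LinearMap.range_eq_bot])
      omega
    have heq := Submodule.eq_of_le_of_finrank_le hle (by rw [finrank_span_singleton one_ne_zero]; exact hfin)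
    obtain ⟨l, hl⟩ := Submodule.mem_span_singleton.mp (heq.ge (show e ∈ LinearMap.ker τ from he))
    exact ⟨l, by rw [← hl, Algebra.algebraMap_eq_smul_one]⟩
  have hcoord : ∀ e : L, ∃ α β : F, e = α • (1 : L) + β • c := fun e => by
    obtain ⟨l, hl⟩ := hker (e - τ e • c) (by rw [map_sub, map_smul, hτc, smul_eq_mul, mul_one, sub_self])
    exact ⟨l, τ e, by rw [← Algebra.algebraMap_eq_smul_one, ← hl, sub_add_cancel]⟩
  have hext : ∀ (A B : V →ₗ[F] V), A x = B x → A (c • x) = B (c • x) → A w = B w → A (c • w) = B (c • w) →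
      ∀ z, A z = B z := by
    intro A B e1 e2 e3 e4 z
    obtain ⟨α, β, hαβ⟩ := hcoord (φ' z)
    obtain ⟨γ, δ, hγδ⟩ := hcoord (φ z)
    rw [hdec z, hαβ, hγδ]
    simp only [add_smul, smul_assoc, one_smul, map_add, map_smul, e1, e2, e3, e4]
  have hc01 : c ≠ 0 ∧ c ≠ 1 := by
    constructor <;> intro h <;> rw [h] at hτc
    · rw [map_zero] at hτc
      exact zero_ne_one hτc
    · rw [hτ1] at hτc
      exact zero_ne_one hτc
  have hcardF : Nat.card F = 2 := by
    rw [Nat.card_eq_two_iff]
    exact ⟨0, 1, zero_ne_one, Set.eq_univ_of_forall fun l => by simpa [eq_comm] using hq l⟩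
  have hcardL : Nat.card L = 4 := by
    rw [Module.natCard_eq_pow_finrank (K := F) (V := L), hcardF, hr]
    rfl
  have hfour : ∀ e : L, e ^ 4 = e := fun e => by
    have := Fintype.ofFinite L
    rw [← hcardL, Nat.card_eq_fintype_card]
    exact FiniteField.pow_card e
  have hsq : c * c = c + 1 := by
    have h : (c * (c - 1)) * (c * c + c + 1) = 0 := by linear_combination hfour c
    have h' := (mul_eq_zero.mp h).resolve_left (mul_ne_zero hc01.1 (sub_ne_zero.mpr hc01.2))
    linear_combination h' - (c + 1) * twoL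
  have hcc : ∀ v : V, c • c • v = c • v + v := fun v => by
    rw [smul_smul, hsq, add_smul, one_smul]
  have hsemi : ∀ P : V ≃ₗ[F] V, Semi L P → P ∈ H := fun P hP =>
    hO.semi_mem P hP 1 H.one_mem (Units.ext (((hq _).resolve_left (Units.ne_zero _)).trans
      ((hq _).resolve_left (Units.ne_zero _)).symm))
  -- the values of `1 + B`
  obtain ⟨k, hk, hkz⟩ := T.exists_k hO T.b
  have kx : k x = x := by
    rw [hkz, ← one_smul L x, hBτ, hτ1, zero_smul, add_zero]
  have kcx : k (c • x) = c • x + x := by rw [hkz, hBτ, hτc, one_smul, T.gb]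
  have kw : k w = w := by
    rw [hkz, T.B_apply, T.ψw, mul_zero, zero_smul, map_zero, add_zero]
  obtain ⟨e, he⟩ : ∃ e : F, T.B T.b (c • w) = w + e • x := by
    obtain ⟨e, he⟩ := hBη (c • w)
    rw [hητ, map_smul φ, hφw, smul_eq_mul, mul_one, hτc, one_smul] at he
    obtain ⟨l, hl⟩ := hker e (by
      refine (algebraMap F L).injective ?_
      rw [← hτψ, map_zero]
      have : e • x = T.g ((T.b * T.ψ (T.g.symm (c • w)) - T.c₁ * T.b) • T.u) := by
        rw [sub_smul, map_sub, ← T.B_apply, T.gw, he, add_sub_cancel_left]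
      rw [this, LinearEquiv.symm_apply_apply, map_smul T.ψ, T.ψu, smul_zero])
    exact ⟨l, by rw [he, hl, algebraMap_smul]⟩
  have kcw : k (c • w) = c • w + (w + e • x) := by rw [hkz, he]
  have hρ : ∀ f : V →ₗ[F] F, f ≠ 0 → (∀ a : L, f (a • x) = 0) → ∀ P ∈ H,
      (∀ z, P z = z + f z • x) → RankOne L H := fun f hf hfx P hP hPz =>
    ⟨x, f, T.x_ne, hf, hfx, fun a => by simp [hfx a], P, hP, fun z => by
      rw [hPz]; simp [algebraMap_smul]⟩
  rcases hq e with he0 | he1
  · rw [he0, zero_smul, add_zero] at he kcw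
    -- the second map
    obtain ⟨h, hh, hhz⟩ := T.exists_k hO (T.c₁ * T.b)
    have hν : T.ψ (T.g.symm (c • w)) = T.c₁ := by
      have h1 : (T.b * T.ψ (T.g.symm (c • w))) • T.u = (T.c₁ * T.b) • T.u :=
        T.g.injective (by rw [← T.B_apply, he, T.gw])
      have hu : T.u ≠ 0 := fun h => T.x_ne (by rw [← T.gb, h, smul_zero, map_zero])
      have := smul_left_injective L hu h1
      exact mul_left_cancel₀ T.b_ne (this.trans (mul_comm _ _))
    have hc1 : T.c₁ * T.c₁ = T.c₁ + 1 := by
      have hne : T.c₁ ≠ 0 := fun h => T.w₀_not (by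
        rw [← T.gw, h, zero_mul, zero_smul, map_zero]
        exact Submodule.zero_mem _)
      have hne1 : T.c₁ ≠ 1 := fun h => T.w₀_not (by
        rw [← T.gw, h, one_mul, T.gb]
        exact Submodule.mem_span_singleton_self _)
      have h : (T.c₁ * (T.c₁ - 1)) * (T.c₁ * T.c₁ + T.c₁ + 1) = 0 := by linear_combination hfour T.c₁
      have h' := (mul_eq_zero.mp h).resolve_left (mul_ne_zero hne (sub_ne_zero.mpr hne1))
      linear_combination h' - (T.c₁ + 1) * twoL
    have hx' : h x = x := by rw [hhz, ← one_smul L x, hBτ, hτ1, zero_smul, add_zero]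
    have hcx : h (c • x) = c • x + w := by rw [hhz, hBτ, hτc, one_smul, T.gw]
    have hw' : h w = w := by rw [hhz, T.B_apply, T.ψw, mul_zero, zero_smul, map_zero, add_zero]
    have hcw : h (c • w) = c • w + (w + x) := by
      rw [hhz, T.B_apply, hν, mul_right_comm, hc1, add_mul, one_mul, add_smul, map_add, T.gw, T.gb]
    let s : V ≃ₗ[L] V := LinearEquiv.ofInvolutive (φ.smulRight x + φ'.smulRight w) (fun z => by
      simpa [hφx, hφw, hφ'x, hφ'w, add_comm] using (hdec z).symm)
    have sv : ∀ z, s z = φ z • x + φ' z • w := fun z => rfl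
    have hθ : φ (c • x) = 0 := by rw [map_smul, hφx, smul_zero]
    let u : V ≃ₗ[L] V := LinearEquiv.transvection hθ
    have uv : ∀ z, u z = z + φ z • c • x := fun z => LinearEquiv.transvection.apply hθ z
    let m : V ≃ₗ[L] V := LinearEquiv.smulOfNeZero L V c hc01.1
    have mv : ∀ z, m z = c • z := fun z => rfl
    have sx : s x = w := by rw [sv, hφx, hφ'x, zero_smul, one_smul, zero_add]
    have sw : s w = x := by rw [sv, hφw, hφ'w, zero_smul, one_smul, add_zero]
    have ux : u x = x := by rw [uv, hφx, zero_smul, add_zero]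
    have uw : u w = w + c • x := by rw [uv, hφw, one_smul]
    have sc : ∀ z, s (c • z) = c • s z := fun z => s.map_smul c z
    have uc : ∀ z, u (c • z) = c • u z := fun z => u.map_smul c z
    set P : V ≃ₗ[F] V := k * h * u.restrictScalars F * s.restrictScalars F * u.restrictScalars F * h *
      m.restrictScalars F
    have hP : P ∈ H := by
      repeat' first
        | exact hk
        | exact hh
        | exact hsemi _ (semi_restrict _)
        | apply H.mul_mem
    have hPz : ∀ z, P z = k (h (u (s (u (h (m z)))))) := fun z => rfl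
    let f : V →ₗ[F] F := τ ∘ₗ ((c * c) • φ).restrictScalars F
    have hfv : ∀ z, f z = τ (c * c * φ z) := fun z => rfl
    have f1 : f x = 0 := by rw [hfv, hφx, mul_zero, map_zero]
    have f2 : f (c • x) = 0 := by rw [hfv, map_smul φ, hφx, smul_zero, mul_zero, map_zero]
    have f3 : f w = 1 := by rw [hfv, hφw, mul_one, hsq, map_add, hτc, hτ1, add_zero]
    have f4 : f (c • w) = 0 := by
      rw [hfv, map_smul φ, hφw, smul_eq_mul, mul_one, hsq, add_mul, hsq, one_mul, map_add, map_add, hτc,
        hτ1, add_zero, h11]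
    have key := hext (P : V →ₗ[F] V) (LinearMap.id + f.smulRight (c • x))
      (by simp [hPz, mv, f1, kx, kcx, kw, kcw, hx', hcx, hw', hcw, sx, sw, sc, ux, uw, uc, hcc, smul_add, two,
        two', add_comm, add_left_comm, add_assoc])
      (by simp [hPz, mv, f2, kx, kcx, kw, kcw, hx', hcx, hw', hcw, sx, sw, sc, ux, uw, uc, hcc, smul_add, two,
        two', add_comm, add_left_comm, add_assoc])
      (by simp [hPz, mv, f3, kx, kcx, kw, kcw, hx', hcx, hw', hcw, sx, sw, sc, ux, uw, uc, hcc, smul_add, two,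
        two', add_comm, add_left_comm, add_assoc])
      (by simp [hPz, mv, f4, kx, kcx, kw, kcw, hx', hcx, hw', hcw, sx, sw, sc, ux, uw, uc, hcc, smul_add, two,
        two', add_comm, add_left_comm, add_assoc])
    have hX : X L H x (f.smulRight c) := ⟨fun a => by simp [hfv, hφx], P, hP, fun z => by
      rw [show P z = z + f z • c • x from key z, LinearMap.smulRight_apply, smul_assoc]⟩
    refine ⟨x, f, T.x_ne, fun h => by rw [h, LinearMap.zero_apply] at f3; exact zero_ne_one f3,
      fun a => by simp [hfv, hφx], (hX.smul hO c⁻¹).congr fun z => ?_⟩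
    simp [hc01.1, Algebra.algebraMap_eq_smul_one]
  · rw [he1, one_smul] at kcw
    let S : V →ₗ[F] V :=
      { toFun := fun z => φ' z ^ 2 • x + φ z ^ 2 • w
        map_add' := fun a b => by
          have : ∀ p q : L, (p + q) ^ 2 = p ^ 2 + q ^ 2 := fun p q => by linear_combination (p * q) * twoL
          simp only [map_add, this, add_smul]
          abel
        map_smul' := fun l a => by
          rcases hq l with rfl | rfl <;> simp }
    have hinv : ∀ z, S (S z) = z := fun z => by
      show φ' (φ' z ^ 2 • x + φ z ^ 2 • w) ^ 2 • x + φ (φ' z ^ 2 • x + φ z ^ 2 • w) ^ 2 • w = z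
      simp only [map_add, map_smul, hφx, hφw, hφ'x, hφ'w, smul_eq_mul, mul_zero, mul_one, zero_add, add_zero,
        ← pow_mul, hfour]
      exact (hdec z).symm
    let σ : V ≃ₗ[F] V := LinearEquiv.ofInvolutive S hinv
    have σv : ∀ z, σ z = φ' z ^ 2 • x + φ z ^ 2 • w := fun z => rfl
    have hσ : σ ∈ H := hsemi σ fun a => ⟨a ^ 2, fun z => by
      rw [σv, σv, map_smul, map_smul, smul_eq_mul, smul_eq_mul, mul_pow, mul_pow, smul_add, smul_smul, smul_smul]⟩
    have σx : σ x = x := by simp [σv, hφx, hφ'x]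
    have σw : σ w = w := by simp [σv, hφw, hφ'w]
    have σcx : σ (c • x) = c • x + x := by simp [σv, hφx, hφ'x, pow_two, hsq, add_smul]
    have σcw : σ (c • w) = c • w + w := by simp [σv, hφw, hφ'w, pow_two, hsq, add_smul]
    let f : V →ₗ[F] F := τ ∘ₗ φ.restrictScalars F
    have hfv : ∀ z, f z = τ (φ z) := fun z => rfl
    have f1 : f x = 0 := by rw [hfv, hφx, map_zero]
    have f2 : f (c • x) = 0 := by rw [hfv, map_smul φ, hφx, smul_zero, map_zero]
    have f3 : f w = 0 := by rw [hfv, hφw, hτ1]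
    have f4 : f (c • w) = 1 := by rw [hfv, map_smul φ, hφw, smul_eq_mul, mul_one, hτc]
    refine hρ f (fun h => by rw [h, LinearMap.zero_apply] at f4; exact zero_ne_one f4)
      (fun a => by simp [hfv, hφx]) (σ * k) (H.mul_mem hσ hk) fun z => ?_
    exact hext ((σ * k : V ≃ₗ[F] V) : V →ₗ[F] V) (LinearMap.id + f.smulRight x)
      (by simp [f1, kx, σx]) (by simp [f2, kcx, σx, σcx, two, add_assoc])
      (by simp [f3, kw, σw])
      (by simp [f4, kcw, σx, σw, σcw, two, two', add_assoc]) z

/-- The coefficient maps through a functional with values in `L`. -/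
def coeffSpace (hO : Over L H) (x : V) (φ : Dual L V) : Submodule F (L →ₗ[F] L) where
  carrier := {G | X L H x (G ∘ₗ φ.restrictScalars F)}
  zero_mem' := X.congr (X.zero x) fun _ => rfl
  add_mem' := fun {G G'} h h' => (h.add h').congr fun _ => rfl
  smul_mem' := fun l G h => (h.smul hO (algebraMap F L l)).congr fun z => by simp [Algebra.smul_def]

theorem exists_rankOne (hO : Over L H) : RankOne L H := by
  classical
  obtain ⟨T⟩ := hO.exists_twist
  obtain ⟨τ, hτ1, hτc, hτψ, hBτ⟩ := T.exists_tau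
  obtain ⟨η, hηw, hηx, hBη⟩ := T.exists_eta
  obtain ⟨k, hk, hkz⟩ := T.exists_k hO T.b
  have hBx : ∀ c : L, T.B T.b (c • T.x) = τ c • T.x := fun c => by rw [hBτ, T.gb]
  have hchi : ∀ (φ : Dual L V), φ T.x = 0 → φ T.w₀ = 1 → ∀ a : L,
      X L H T.x (Algebra.linearMap F L ∘ₗ (τ ∘ₗ (a • φ).restrictScalars F - τ a • η) - η.smulRight a) :=
    fun φ h1 h2 a => chi_mem hO hk hkz (T.B_B _ _) hBx hBη hηx h1 h2 a
  have hτ0 : τ ≠ 0 := fun h => by rw [h, LinearMap.zero_apply] at hτc; exact zero_ne_one hτc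
  by_cases hA : ∃ φ : Dual L V, φ T.x = 0 ∧ φ T.w₀ = 1 ∧ ∃ z, τ (φ z) ≠ η z
  · obtain ⟨φ, h1, h2, z, hz⟩ := hA
    refine ⟨T.x, τ ∘ₗ φ.restrictScalars F - η, T.x_ne, fun h => hz ?_, fun a => ?_, ?_⟩
    · have := LinearMap.congr_fun h z
      simpa [sub_eq_zero] using this
    · simp [h1, hηx a]
    · refine (hchi φ h1 h2 1).congr fun z => ?_
      simp [hτ1, Algebra.algebraMap_eq_smul_one, sub_smul]
  push_neg at hA
  obtain ⟨φ, hφw, hφ⟩ := exists_dual_eq_one T.w₀_not
  have hφx : φ T.x = 0 := hφ _ (Submodule.mem_span_singleton_self _)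
  have hητ : ∀ z, η z = τ (φ z) := fun z => (hA φ hφx hφw z).symm
  have hxw : T.x ∉ L ∙ T.w₀ := by
    intro h
    obtain ⟨c, hc⟩ := Submodule.mem_span_singleton.mp h
    have := congrArg φ hc
    rw [map_smul, hφw, hφx, smul_eq_mul, mul_one] at this
    exact T.x_ne (by rw [← hc, this, zero_smul])
  obtain ⟨φ', hφ'x, hφ'⟩ := exists_dual_eq_one hxw
  have hφ'w : φ' T.w₀ = 0 := hφ' _ (Submodule.mem_span_singleton_self _)
  have hdec : ∀ z, z = φ' z • T.x + φ z • T.w₀ := by
    intro z
    by_contra hne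
    set v := z - (φ' z • T.x + φ z • T.w₀) with hv
    have hv0 : v ≠ 0 := sub_ne_zero.mpr hne
    have h1 : φ v = 0 := by simp [hv, hφx, hφw]
    have h2 : φ' v = 0 := by simp [hv, hφ'x, hφ'w]
    have hvs : v ∉ Submodule.span L {T.x, T.w₀} := by
      intro h
      obtain ⟨a, c, hac⟩ := Submodule.mem_span_pair.mp h
      have ha : a = 0 := by simpa [← hac, hφ'x, hφ'w] using h2
      have hc : c = 0 := by simpa [← hac, hφx, hφw] using h1
      exact hv0 (by rw [← hac, ha, hc, zero_smul, zero_smul, add_zero])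
    obtain ⟨θ, hθv, hθx, hθw⟩ := exists_dual_pair hvs
    refine hτ0 (LinearMap.ext fun e => ?_)
    have h := hA (φ + e • θ) (by simp [hφx, hθx]) (by simp [hφw, hθw]) v
    rw [hητ, h1, map_zero] at h
    simpa [h1, hθv] using h
  have hM : ∀ a : L, X L H T.x (Algebra.linearMap F L ∘ₗ (τ ∘ₗ (a • φ).restrictScalars F) -
      (τ a • Algebra.linearMap F L ∘ₗ τ ∘ₗ φ.restrictScalars F) - (τ ∘ₗ φ.restrictScalars F).smulRight a) :=
    fun a => (hchi φ hφx hφw a).congr fun z => by simp [hητ, Algebra.smul_def]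
  have hfx : ∀ a : L, (τ ∘ₗ φ.restrictScalars F) (a • T.x) = 0 := fun a => by simp [hφx]
  have hf0 : τ ∘ₗ φ.restrictScalars F ≠ 0 := fun h => by
    have := LinearMap.congr_fun h (T.c₀ • T.w₀)
    simp [hφw, hτc] at this
  by_cases h3 : 3 ≤ finrank F L
  · have hR := exists_rankOne_of_bimodule τ hτ0 hO.prime h3 hτ1 (coeffSpace hO T.x φ)
      (fun v G hG => (X.smul hO hG v).congr fun _ => rfl)
      (fun v G hG => ?_)
      ((X.of_dual hO hφx).congr fun _ => rfl)
      (fun d hd => (hM d).congr fun z => by simp [hd, Mmap_apply])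
    · exact ⟨T.x, _, T.x_ne, hf0, hfx, X.congr hR fun _ => rfl⟩
    · rcases eq_or_ne v 0 with rfl | hv
      · exact (X.zero T.x).congr fun z => by simp
      obtain ⟨P, hP, hPx, hPw⟩ := hO.exists_diag T.x_ne T.w₀_not (inv_ne_zero hv)
      rw [inv_inv] at hPx
      have hφP : ∀ z, φ (P.symm z) = v * φ z := fun z => by
        have h : φ z = v⁻¹ * φ (P.symm z) := by
          conv_lhs => rw [← P.apply_symm_apply z, hdec (P.symm z)]
          simp [hPx, hPw, hφx, hφw, mul_comm]
        rw [h, mul_inv_cancel_left₀ hv]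
      refine (X.smul hO (X.conj hG hP hPx hv) v⁻¹).congr fun z => ?_
      simp [hφP, hv]
  · have hr : finrank F L = 2 := by have := hO.prime.two_le; omega
    by_cases hq : ∀ l : F, l = 0 ∨ l = 1
    · exact rankOne_tiny hO T hq hr hτ1 hτc hτψ hBτ hBη hφx hφw hφ'x hφ'w hdec hητ
    push_neg at hq
    obtain ⟨l, hl0, hl1⟩ := hq
    obtain ⟨k', hk', hkz'⟩ := T.exists_k hO (algebraMap F L l * T.b)
    have hB' : ∀ z, T.B (algebraMap F L l * T.b) z = l • T.B T.b z := fun z => by
      rw [T.B_apply, T.B_apply, ← map_smul, mul_assoc, mul_smul, algebraMap_smul]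
    have hl : ∀ a : L, X L H T.x (Algebra.linearMap F L ∘ₗ ((l • τ) ∘ₗ (a • φ).restrictScalars F -
        (l • τ) a • (l • η)) - (l • η).smulRight a) := fun a =>
      chi_mem hO hk' (B := l • T.B T.b) (fun z => by rw [hkz', hB', LinearMap.smul_apply])
        (fun z => by simp [T.B_B]) (fun c => by simp [hBx, smul_smul])
        (fun z => by
          obtain ⟨c, hc⟩ := hBη z
          exact ⟨l • c, by rw [LinearMap.smul_apply, hc, smul_add, LinearMap.smul_apply, smul_eq_mul,
            mul_smul, smul_assoc]⟩)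
        (fun c => by simp [hηx c]) hφx hφw a
    have hne : l * l - l ≠ 0 := by
      rw [← mul_sub_one]
      exact mul_ne_zero hl0 (sub_ne_zero.mpr hl1)
    have h := ((((hM T.c₀).smul hO (algebraMap F L l)).sub (hl T.c₀)).smul hO
      (algebraMap F L (l * l - l)⁻¹))
    refine ⟨T.x, τ ∘ₗ φ.restrictScalars F, T.x_ne, hf0, hfx, h.congr fun z => ?_⟩
    simp only [LinearMap.smul_apply, LinearMap.sub_apply, LinearMap.coe_comp, LinearMap.coe_restrictScalars,
      Function.comp_apply, LinearMap.smulRight_apply, Algebra.linearMap_apply, hητ, hτc, smul_eq_mul, one_mul,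
      mul_one, map_sub, map_mul, map_one, Algebra.smul_def, map_inv₀]
    have hne' : algebraMap F L (l * l - l) ≠ 0 := (map_ne_zero _).mpr hne
    rw [map_sub, map_mul] at hne'
    linear_combination (algebraMap F L (τ (φ z))) * inv_mul_cancel₀ hne'

end Cfsg.Lib.Classical.ExtField
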