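import Cfsg.Agent.Classical.ExtField.Basic

/-! A non-semilinear element yields a line twisted inside a non-line. -/

set_option autoImplicit false
set_option linter.unusedSectionVars false

namespace Cfsg.Lib.Classical.ExtField

open Module

variable {F L V : Type*} [Field F] [Finite F] [Field L] [Algebra F L] [FiniteDimensional F L]
  [AddCommGroup V] [Module F V] [Module L V] [IsScalarTower F L V] [FiniteDimensional F V]

variable (F L) in
/-- The `L`-line of `x`, over `F`. -/
def line (x : V) : Submodule F V := LinearMap.range ((LinearMap.toSpanSingleton L V x).restrictScalars F)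

theorem mem_line {x z : V} : z ∈ line F L x ↔ ∃ a : L, a • x = z := LinearMap.mem_range

theorem self_mem_line (x : V) : x ∈ line F L x := mem_line.mpr ⟨1, one_smul L x⟩

theorem line_smul {x : V} {a : L} (ha : a ≠ 0) : line F L (a • x) = line F L x := by
  ext z
  simp only [mem_line]
  constructor
  · rintro ⟨b, rfl⟩
    exact ⟨b * a, mul_smul b a x⟩
  · rintro ⟨b, rfl⟩
    exact ⟨b * a⁻¹, by rw [smul_smul, inv_mul_cancel_right₀ ha]⟩

theorem line_eq_of_mem {x z : V} (hz : z ∈ line F L x) (h0 : z ≠ 0) : line F L z = line F L x := by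
  obtain ⟨a, rfl⟩ := mem_line.mp hz
  exact line_smul fun h => h0 (by rw [h, zero_smul])

theorem finrank_line {x : V} (hx : x ≠ 0) : finrank F (line F L x) = finrank F L :=
  LinearMap.finrank_range_of_inj (smul_left_injective L hx)

variable {H : Subgroup (V ≃ₗ[F] V)}

/-- Some line has an image that is not a line. -/
theorem Over.exists_nonline (hO : Over L H) :
    ∃ g ∈ H, ∃ u : V, ∀ x : V, (line F L u).map (g : V →ₗ[F] V) ≠ line F L x := by
  obtain ⟨g, hg, hns⟩ := hO.exists_not_semi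
  refine ⟨g, hg, ?_⟩
  by_contra! hc
  refine hns fun a => ?_
  have hT : ∀ z : V, ∃ b : L, g (a • g.symm z) = b • z := by
    intro z
    rcases eq_or_ne z 0 with rfl | hz
    · exact ⟨0, by simp⟩
    obtain ⟨x, hx⟩ := hc (g.symm z)
    have hzx : z ∈ line F L x := hx ▸ ⟨g.symm z, self_mem_line _, g.apply_symm_apply z⟩
    have h1 : g (a • g.symm z) ∈ line F L x := hx ▸ ⟨a • g.symm z, mem_line.mpr ⟨a, rfl⟩, rfl⟩
    rw [← line_eq_of_mem hzx hz] at h1
    obtain ⟨b, hb⟩ := mem_line.mp h1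
    exact ⟨b, hb.symm⟩
  choose c hc using hT
  have hind : ∀ x y : V, x ≠ 0 → y ∉ L ∙ x → c x = c y := by
    intro x y hx hy
    have h := hc (x + y)
    rw [map_add, smul_add, map_add, hc x, hc y] at h
    have h' : (c y - c (x + y)) • y = (c (x + y) - c x) • x := by
      rw [sub_smul, sub_smul, sub_eq_sub_iff_add_eq_add, ← smul_add, add_comm, h, add_comm x y]
    rcases eq_or_ne (c y - c (x + y)) 0 with h0 | h0
    · rw [h0, zero_smul] at h'
      rcases smul_eq_zero.mp h'.symm with h1 | h1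
      · linear_combination -h0 - h1
      · exact absurd h1 hx
    · refine absurd (Submodule.mem_span_singleton.mpr ⟨(c y - c (x + y))⁻¹ * (c (x + y) - c x), ?_⟩) hy
      rw [mul_smul, ← h', smul_smul, inv_mul_cancel₀ h0, one_smul]
  obtain ⟨x0, hx0⟩ : ∃ x0 : V, x0 ≠ 0 := by
    by_contra! h
    have : Subsingleton V := ⟨fun p q => by rw [h p, h q]⟩
    have := hO.two_le
    rw [Module.finrank_zero_of_subsingleton] at this
    omega
  have hout : ∀ x : V, ∃ y : V, y ∉ L ∙ x := by
    intro x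
    by_contra! h
    have htop : (L ∙ x) = ⊤ := Submodule.eq_top_iff'.mpr h
    have h2 := hO.two_le
    rw [← finrank_top L V, ← htop] at h2
    have h3 := finrank_span_le_card ({x} : Set V) (R := L)
    simp only [Set.toFinset_singleton, Finset.card_singleton] at h3
    omega
  obtain ⟨y0, hy0⟩ := hout x0
  refine ⟨c x0, fun z => ?_⟩
  have hz := hc (g z)
  rw [LinearEquiv.symm_apply_apply] at hz
  rw [hz]
  rcases eq_or_ne (g z) 0 with h0 | h0
  · rw [h0, smul_zero, smul_zero]
  by_cases hm : g z ∈ L ∙ x0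
  · have hy : y0 ∉ L ∙ (g z) := fun h => hy0 (Submodule.span_singleton_le_iff_mem _ _ |>.mpr hm h)
    rw [hind x0 y0 hx0 hy0, ← hind _ y0 h0 hy]
  · rw [hind x0 _ hx0 hm]

variable (L) in
/-- A line twisted inside a non-line image. -/
structure Twist (H : Subgroup (V ≃ₗ[F] V)) where
  g : V ≃ₗ[F] V
  g_mem : g ∈ H
  u : V
  ψ : Dual L V
  ψu : ψ u = 0
  b : L
  c₁ : L
  c₀ : L
  x : V
  w₀ : V
  x_ne : x ≠ 0
  b_ne : b ≠ 0
  gb : g (b • u) = x
  gw : g ((c₁ * b) • u) = w₀
  w₀_not : w₀ ∉ L ∙ x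
  ψy : ψ (g.symm (c₀ • x)) = 1
  scalar : ∀ c : L, ∃ l : F, ψ (g.symm (c • x)) = algebraMap F L l
  span : ∀ a : L, ∃ (l : F) (c : L), g (a • u) = l • w₀ + c • x

theorem exists_dual_pair {u q v : V} (hv : v ∉ Submodule.span L {u, q}) :
    ∃ ψ : Dual L V, ψ v = 1 ∧ ψ u = 0 ∧ ψ q = 0 := by
  obtain ⟨ψ, h1, h2⟩ := exists_dual_eq_one hv
  exact ⟨ψ, h1, h2 u (Submodule.subset_span (by simp)), h2 q (Submodule.subset_span (by simp))⟩

/-- Twisted lines exist. -/
theorem Over.exists_twist (hO : Over L H) : Nonempty (Twist L H) := by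
  classical
  let P : ℕ → Prop := fun s => ∃ g ∈ H, ∃ u x : V,
    (∀ y : V, (line F L u).map (g : V →ₗ[F] V) ≠ line F L y) ∧ x ≠ 0 ∧
      s ≤ finrank F ↥((line F L u).map (g : V →ₗ[F] V) ⊓ line F L x)
  have hbound : ∀ s, P s → s < finrank F L := by
    rintro s ⟨g, hg, u, x, hW, hx, hs⟩
    refine lt_of_le_of_lt hs ?_
    rw [← finrank_line (F := F) (L := L) hx]
    refine Submodule.finrank_lt_finrank_of_lt (lt_of_le_of_ne inf_le_right fun h => hW x ?_)
    have hu : u ≠ 0 := by
      rintro rfl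
      refine hW 0 ?_
      simp [line]
    refine (Submodule.eq_of_le_of_finrank_le (inf_eq_right.mp h) ?_).symm
    rw [LinearEquiv.finrank_map_eq g, finrank_line hu, finrank_line hx]
  obtain ⟨g0, hg0, u0, hW0⟩ := hO.exists_nonline
  have hP1 : P 1 := by
    have hu : u0 ≠ 0 := by
      rintro rfl
      refine hW0 0 ?_
      simp [line]
    refine ⟨g0, hg0, u0, g0 u0, hW0, by simpa using hu, ?_⟩
    refine Submodule.one_le_finrank_iff.mpr fun h => hu ?_
    have hm : g0 u0 ∈ (line F L u0).map (g0 : V →ₗ[F] V) ⊓ line F L (g0 u0) :=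
      ⟨⟨u0, self_mem_line u0, rfl⟩, self_mem_line _⟩
    rw [h, Submodule.mem_bot] at hm
    simpa using hm
  set s := Nat.findGreatest P (finrank F L) with hsdef
  have hsP : P s := Nat.findGreatest_spec (hO.prime.pos) hP1
  have hs1 : 1 ≤ s := Nat.le_findGreatest hO.prime.pos hP1
  have hsmax : ∀ t, P t → t ≤ s := fun t ht => Nat.le_findGreatest (hbound t ht).le ht
  obtain ⟨g, hg, u, x, hW, hx, hle⟩ := hsP
  set W : Submodule F V := (line F L u).map (g : V →ₗ[F] V) with hWdef
  set I : Submodule F V := W ⊓ line F L x with hIdef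
  have hIs : finrank F I = s := le_antisymm (hsmax _ ⟨g, hg, u, x, hW, hx, le_rfl⟩) hle
  have hu : u ≠ 0 := by
    rintro rfl
    refine hW 0 ?_
    simp [hWdef, line]
  have hWr : finrank F W = finrank F L := by
    rw [hWdef, LinearEquiv.finrank_map_eq g, finrank_line hu]
  have hsr : s < finrank F L := hbound s ⟨g, hg, u, x, hW, hx, hle⟩
  have hmemW : ∀ z, z ∈ W ↔ ∃ a : L, g (a • u) = z := fun z => by
    rw [hWdef]
    constructor
    · rintro ⟨v, hv, rfl⟩
      obtain ⟨a, rfl⟩ := mem_line.mp hv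
      exact ⟨a, rfl⟩
    · rintro ⟨a, rfl⟩
      exact ⟨a • u, mem_line.mpr ⟨a, rfl⟩, rfl⟩
  -- a point of the line outside the image
  obtain ⟨y, hy, hyW⟩ : ∃ y ∈ line F L x, y ∉ W := by
    by_contra! h
    have : I = line F L x := inf_eq_right.mpr h
    rw [this, finrank_line hx] at hIs
    omega
  have hy0 : y ≠ 0 := fun h => hyW (h ▸ W.zero_mem)
  have hq : g.symm y ∉ L ∙ u := by
    intro h
    obtain ⟨a, ha⟩ := Submodule.mem_span_singleton.mp h
    exact hyW ((hmemW y).mpr ⟨a, by rw [ha, LinearEquiv.apply_symm_apply]⟩)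
  let J : Submodule F L := Submodule.comap
    ((g : V →ₗ[F] V) ∘ₗ (LinearMap.toSpanSingleton L V u).restrictScalars F) (line F L x)
  have hmemJ : ∀ a : L, a ∈ J ↔ g (a • u) ∈ line F L x := fun a => Iff.rfl
  obtain ⟨b, hbJ, hb0⟩ : ∃ b ∈ J, b ≠ 0 := by
    have hne : I ≠ ⊥ := fun h => by rw [h, finrank_bot] at hIs; omega
    obtain ⟨z, hz, hz0⟩ := I.exists_mem_ne_zero_of_ne_bot hne
    obtain ⟨a, rfl⟩ := (hmemW z).mp hz.1
    exact ⟨a, hz.2, fun h => hz0 (by rw [h, zero_smul, map_zero])⟩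
  obtain ⟨c₁', hc₁'⟩ : ∃ a : L, a ∉ J := by
    by_contra! h
    have : I = W := inf_eq_left.mpr fun z hz => by
      obtain ⟨a, rfl⟩ := (hmemW z).mp hz
      exact h a
    rw [this, hWr] at hIs
    omega
  -- maximality forces scalar coefficients
  have hscal : ∀ ψ : Dual L V, ψ u = 0 → ψ (g.symm y) = 1 → ∀ z ∈ line F L x, ∀ b' ∈ J,
      b' * ψ (g.symm z) ∈ J := by
    intro ψ hψu hψy z hz b' hb'
    rcases eq_or_ne b' 0 with rfl | hb'0
    · rw [zero_mul]; exact J.zero_mem
    have hθ : (b' • ψ) u = 0 := by simp [hψu]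
    set k : V ≃ₗ[F] V := g * (LinearEquiv.transvection hθ).restrictScalars F * g⁻¹ with hkdef
    have hk : k ∈ H := H.mul_mem (H.mul_mem hg (hO.transvection_mem hθ)) (H.inv_mem hg)
    have hkz : ∀ v, k v = v + g ((b' * ψ (g.symm v)) • u) := fun v => by
      show g (LinearEquiv.transvection hθ (g.symm v)) = _
      rw [LinearEquiv.transvection.apply, map_add, LinearEquiv.apply_symm_apply, LinearMap.smul_apply, smul_eq_mul]
    have hWfix : ∀ v ∈ W, k v = v := by
      intro v hv
      obtain ⟨a, rfl⟩ := (hmemW v).mp hv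
      rw [hkz, LinearEquiv.symm_apply_apply, map_smul ψ, hψu, smul_zero, mul_zero, zero_smul, map_zero, add_zero]
    have hky : k y = y + g (b' • u) := by rw [hkz, hψy, mul_one]
    have hgb : g (b' • u) ∈ I := ⟨(hmemW _).mpr ⟨b', rfl⟩, hb'⟩
    have hky' : k y ∈ line F L x := hky ▸ (line F L x).add_mem hy hgb.2
    have hkyW : k y ∉ W := fun h => hyW (by
      rw [hky] at h
      simpa using W.sub_mem h hgb.1)
    by_cases hline : ∃ v, (line F L x).map (k : V →ₗ[F] V) = line F L v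
    · obtain ⟨v, hv⟩ := hline
      have hky2 : k y ∈ (line F L x).map (k : V →ₗ[F] V) := ⟨y, hy, rfl⟩
      have hky0 : k y ≠ 0 := by simpa using hy0
      rw [hv] at hky2
      have hkz' : k z ∈ line F L x := by
        rw [← line_eq_of_mem hky' hky0, line_eq_of_mem hky2 hky0, ← hv]
        exact ⟨z, hz, rfl⟩
      rw [hkz] at hkz'
      rw [hmemJ]
      simpa using (line F L x).sub_mem hkz' hz
    · push_neg at hline
      exfalso
      have hbig : s + 1 ≤ finrank F ↥((line F L x).map (k : V →ₗ[F] V) ⊓ line F L x) := by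
        rw [← hIs, Nat.succ_le_iff]
        refine Submodule.finrank_lt_finrank_of_lt (lt_of_le_of_ne (fun v hv => ⟨⟨v, hv.2, hWfix v hv.1⟩, hv.2⟩) ?_)
        intro h
        have hm : k y ∈ I := h ▸ ⟨⟨y, hy, rfl⟩, hky'⟩
        exact hkyW hm.1
      have := hsmax (s + 1) ⟨k, hk, x, x, hline, hx, hbig⟩
      omega
  have hF : ∀ ψ : Dual L V, ψ u = 0 → ψ (g.symm y) = 1 → ∀ z ∈ line F L x,
      ∃ l : F, ψ (g.symm z) = algebraMap F L l := by
    intro ψ hψu hψy z hz
    let A : Subalgebra F L :=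
      { carrier := {a | ∀ b' ∈ J, a * b' ∈ J}
        mul_mem' := fun {a c} ha hc b' hb' => by rw [mul_assoc]; exact ha _ (hc b' hb')
        one_mem' := fun b' hb' => by rwa [one_mul]
        add_mem' := fun {a c} ha hc b' hb' => by rw [add_mul]; exact J.add_mem (ha b' hb') (hc b' hb')
        zero_mem' := fun b' _ => by rw [zero_mul]; exact J.zero_mem
        algebraMap_mem' := fun l b' hb' => by rw [← Algebra.smul_def]; exact J.smul_mem l hb' }
    have hA : A ≠ ⊤ := by
      intro h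
      have h1 : c₁' * b⁻¹ ∈ A := h ▸ Algebra.mem_top
      refine hc₁' ?_
      have := h1 b hbJ
      rwa [inv_mul_cancel_right₀ hb0] at this
    have := Subalgebra.isSimpleOrder_of_finrank_prime F L hO.prime
    have hbot : A = ⊥ := (IsSimpleOrder.eq_bot_or_eq_top A).resolve_right hA
    have hmem : ψ (g.symm z) ∈ A := fun b' hb' => by
      rw [mul_comm]
      exact hscal ψ hψu hψy z hz b' hb'
    rw [hbot] at hmem
    obtain ⟨l, hl⟩ := Algebra.mem_bot.mp hmem
    exact ⟨l, hl.symm⟩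
  obtain ⟨ψ, hψy, hψu'⟩ := exists_dual_eq_one hq
  have hψu : ψ u = 0 := hψu' u (Submodule.mem_span_singleton_self u)
  have hdec : ∀ z ∈ line F L x, ∃ l : F, z - l • y ∈ I := by
    intro z hz
    obtain ⟨l, hl⟩ := hF ψ hψu hψy z hz
    refine ⟨l, ?_, (line F L x).sub_mem hz ((line F L x).smul_mem l hy)⟩
    by_contra hnW
    set v := g.symm (z - l • y) with hv
    have hv' : v = g.symm z - l • g.symm y := by rw [hv, map_sub, map_smul]
    have hψv : ψ v = 0 := by
      rw [hv', map_sub, LinearMap.map_smul_of_tower, hl, hψy, Algebra.algebraMap_eq_smul_one, sub_self]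
    have hvu : v ∉ L ∙ u := by
      intro h
      obtain ⟨a, ha⟩ := Submodule.mem_span_singleton.mp h
      exact hnW ((hmemW _).mpr ⟨a, by rw [ha, hv, LinearEquiv.apply_symm_apply]⟩)
    have hvuq : v ∉ Submodule.span L {u, g.symm y} := by
      intro h
      obtain ⟨a, c, hac⟩ := Submodule.mem_span_pair.mp h
      have : c = 0 := by
        have h' := congrArg ψ hac
        rw [map_add, map_smul, map_smul, hψu, hψy, hψv] at h'
        simpa using h'
      rw [this, zero_smul, add_zero] at hac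
      exact hvu (Submodule.mem_span_singleton.mpr ⟨a, hac⟩)
    obtain ⟨θ, hθv, hθu, hθy⟩ := exists_dual_pair hvuq
    obtain ⟨e, he⟩ : ∃ e : L, ∀ l' : F, e ≠ algebraMap F L l' := by
      by_contra! h
      have hr1 := hO.prime.two_le
      have htop : (⊤ : Subalgebra F L) = ⊥ := by
        rw [eq_bot_iff]
        intro e _
        obtain ⟨l', hl'⟩ := h e
        exact Algebra.mem_bot.mpr ⟨l', hl'.symm⟩
      rw [Subalgebra.bot_eq_top_iff_finrank_eq_one.mp htop.symm] at hr1
      omega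
    obtain ⟨l', hl'⟩ := hF (ψ + e • θ) (by simp [hψu, hθu]) (by simp [hψy, hθy]) z hz
    refine he (l' - l) ?_
    have hz' : g.symm z = v + l • g.symm y := by rw [hv', sub_add_cancel]
    rw [LinearMap.add_apply, LinearMap.smul_apply, hl, hz', map_add θ, LinearMap.map_smul_of_tower, hθv, hθy,
      smul_zero, add_zero, smul_eq_mul, mul_one] at hl'
    rw [map_sub, ← hl']
    ring
  have hs' : s + 1 = finrank F L := by
    have h1 : line F L x ≤ (F ∙ y) ⊔ I := by
      intro z hz
      obtain ⟨l, hl⟩ := hdec z hz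
      have := Submodule.add_mem_sup (Submodule.smul_mem _ l (Submodule.mem_span_singleton_self y)) hl
      rwa [add_sub_cancel] at this
    have h2 := (Submodule.finrank_mono h1).trans (Submodule.finrank_add_le_finrank_add_finrank _ _)
    rw [finrank_line hx, finrank_span_singleton hy0, hIs] at h2
    omega
  -- normalise
  set x' := g (b • u) with hx'def
  have hx'0 : x' ≠ 0 := by simp [hx'def, hb0, hu]
  have hlx : line F L x' = line F L x := line_eq_of_mem hbJ hx'0
  obtain ⟨c₀, hc₀⟩ : ∃ c₀ : L, c₀ • x' = y := mem_line.mp (hlx ▸ hy)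
  set w₀ := g (c₁' • u) with hw₀def
  have hw₀ : w₀ ∉ line F L x := hc₁'
  have hw₀' : w₀ ∉ L ∙ x' := fun h => hw₀ (by
    rw [← hlx]
    exact mem_line.mpr (Submodule.mem_span_singleton.mp h))
  have hspan : W ≤ (F ∙ w₀) ⊔ I := by
    have hsub : (F ∙ w₀) ⊔ I ≤ W :=
      sup_le ((Submodule.span_singleton_le_iff_mem _ _).mpr ((hmemW _).mpr ⟨c₁', rfl⟩)) inf_le_left
    refine (Submodule.eq_of_le_of_finrank_le hsub ?_).ge
    rw [hWr, ← hs', ← hIs]
    refine Submodule.finrank_lt_finrank_of_lt (lt_of_le_of_ne le_sup_right fun h => hw₀ ?_)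
    have hm : w₀ ∈ I := h ▸ Submodule.mem_sup_left (Submodule.mem_span_singleton_self w₀)
    exact hm.2
  refine ⟨⟨g, hg, u, ψ, hψu, b, c₁' * b⁻¹, c₀, x', w₀, hx'0, hb0, rfl, ?_, hw₀', ?_, ?_, ?_⟩⟩
  · rw [inv_mul_cancel_right₀ hb0]
  · rw [hc₀, hψy]
  · exact fun c => hF ψ hψu hψy _ (hlx ▸ mem_line.mpr ⟨c, rfl⟩)
  · intro a
    obtain ⟨p, hp, q, hq', hpq⟩ := Submodule.mem_sup.mp (hspan ((hmemW _).mpr ⟨a, rfl⟩))
    obtain ⟨l, rfl⟩ := Submodule.mem_span_singleton.mp hp
    obtain ⟨c, rfl⟩ := mem_line.mp (hlx ▸ hq'.2)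
    exact ⟨l, c, hpq.symm⟩

end Cfsg.Lib.Classical.ExtField
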